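import Groth.Agent.MdlMap.Dom
import Groth.Agent.MdlRegPt.Point
import Groth.Agent.BirNormal.Basic
import Groth.Agent.CardCrit.Sch

/-!
# Points of a normal model of a curve
-/

noncomputable section

set_option autoImplicit false
set_option linter.style.haveILetI false
set_option linter.unusedSectionVars false
set_option backward.isDefEq.respectTransparency false
set_option backward.isDefEq.respectTransparency.types false
set_option maxHeartbeats 1000000

universe u

open CategoryTheory CategoryTheory.Limits AlgebraicGeometry TopologicalSpace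
open Groth.Agent

namespace Groth.Agent.MdlMap

variable {R : Type u} [CommRing R] [IsDomain R] [IsDiscreteValuationRing R]

theorem isOpenImmersion_generic :
    IsOpenImmersion (Spec.map (CommRingCat.ofHom (algebraMap R (FractionRing R)))) := by
  obtain ⟨ϖ, hϖ⟩ := IsDiscreteValuationRing.exists_irreducible R
  haveI hloc : IsLocalization.Away ϖ (FractionRing R) := by
    refine ⟨?_, fun z => ?_, fun {a b} h => ⟨1, by rw [IsFractionRing.injective R (FractionRing R) h]⟩⟩
    · rintro ⟨_, k, rfl⟩
      exact IsUnit.mk0 _ ((map_ne_zero_iff _ (IsFractionRing.injective R (FractionRing R))).2 (pow_ne_zero k hϖ.ne_zero))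
    · obtain ⟨⟨a, s, hs⟩, hz⟩ := IsLocalization.surj (nonZeroDivisors R) z
      obtain ⟨k, u, rfl⟩ := IsDiscreteValuationRing.eq_unit_mul_pow_irreducible (nonZeroDivisors.ne_zero hs) hϖ
      refine ⟨⟨↑u⁻¹ * a, ϖ ^ k, k, rfl⟩, ?_⟩
      show z * algebraMap R _ (ϖ ^ k) = algebraMap R _ (↑u⁻¹ * a)
      rw [map_mul, ← hz, mul_left_comm, ← map_mul, Units.inv_mul_cancel_left]
  exact IsOpenImmersion.of_isLocalization ϖ

variable {C X : Scheme.{u}} {f : C ⟶ Spec (CommRingCat.of (FractionRing R))} {p : X ⟶ Spec (CommRingCat.of R)}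
  {g : C ⟶ X} (hg : IsPullback g f p (Spec.map (CommRingCat.ofHom (algebraMap R (FractionRing R)))))

include hg in
theorem isOpenImmersion_iota : IsOpenImmersion g :=
  MorphismProperty.of_isPullback hg.flip isOpenImmersion_generic

include hg in
theorem range_iota : Set.range g = p ⁻¹' {(⟨⊥, Ideal.isPrime_bot⟩ : PrimeSpectrum R)} := by
  rw [← MdlRegPt.range_generic (R := R), ← Scheme.Pullback.range_fst]
  rw [← hg.isoPullback_hom_fst, Scheme.Hom.comp_base]
  exact Function.Surjective.range_comp (Scheme.Hom.homeomorph hg.isoPullback.hom).surjective _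

theorem specMap_stalkHom (x : X) :
    Spec.map (CommRingCat.ofHom (Models.stalkHom R (Over.mk p) x)) = X.fromSpecStalk x ≫ p := by
  refine ext_of_isAffine ?_
  rw [Scheme.Hom.comp_appTop, Scheme.fromSpecStalk_appTop]
  rw [← cancel_mono (Scheme.ΓSpecIso (X.presheaf.stalk x)).hom]
  erw [Scheme.ΓSpecIso_naturality]
  ext c
  simp [Models.stalkHom, Coh.toGlobal]

variable [IsProper p] [Flat p] (hdim : topologicalKrullDim C ≤ 1)

include hg hdim in
/-- Non-closed points of the closed fibre have no proper generalisation in it. -/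
theorem eq_of_generalization {y y₁ y' : X} (hy₁ : y₁ ∈ Models.specialFibreSet R (Over.mk p)) (h1 : y ⤳ y₁)
    (hne : y ≠ y₁) (hy : y ∈ Models.specialFibreSet R (Over.mk p)) (h' : y' ⤳ y)
    (hy' : y' ∈ Models.specialFibreSet R (Over.mk p)) : y' = y := by
  haveI : IsLocallyNoetherian X := LocallyOfFiniteType.isLocallyNoetherian p
  haveI : LocallyOfFinitePresentation p :=
    LocallyOfFinitePresentation.iff_locallyOfFiniteType.2 inferInstance
  have hgen : topologicalKrullDim ↥(p ⁻¹' {(⟨⊥, Ideal.isPrime_bot⟩ : PrimeSpectrum R)}) ≤ 1 := by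
    haveI := isOpenImmersion_iota hg
    rw [← range_iota hg, ← g.isEmbedding.toHomeomorph.isHomeomorph.topologicalKrullDim_eq]
    exact hdim
  by_contra hne'
  have r1 := FibDim.rd_lt p h1 hne ((MdlRegPt.mem_F_iff.1 hy).trans (MdlRegPt.mem_F_iff.1 hy₁).symm)
  have r2 := FibDim.rd_lt p h' hne' ((MdlRegPt.mem_F_iff.1 hy').trans (MdlRegPt.mem_F_iff.1 hy).symm)
  obtain ⟨ζ, -, hζ, hle⟩ := FibDim.exists_generization_rd_ge p (x := y')
    (fun U hU => p.isOpenMap.image_mem_nhds hU) (y' := (⟨⊥, Ideal.isPrime_bot⟩ : PrimeSpectrum R))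
    ((PrimeSpectrum.le_iff_specializes _ _).1 (bot_le (α := Ideal R)))
  have h3 := FibDim.dim_closure_inter p ζ
  rw [hζ] at h3
  have h4 : ((FibDim.rd p ζ : ℕ∞) : WithBot ℕ∞) ≤ 1 := by
    rw [← h3]
    exact le_trans ((Topology.IsEmbedding.inclusion Set.inter_subset_right).isInducing.topologicalKrullDim_le) hgen
  have h5 : FibDim.rd p ζ ≤ 1 := by exact_mod_cast h4
  omega

/-- `y` is a generic point of a component of the closed fibre. -/
def IsMaxSpecial (p : X ⟶ Spec (CommRingCat.of R)) (y : X) : Prop :=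
  y ∈ Models.specialFibreSet R (Over.mk p) ∧
    ∀ y' : X, y' ⤳ y → y' ∈ Models.specialFibreSet R (Over.mk p) → y' = y

include hg hdim in
theorem isMaxSpecial_of_ne {y y₁ : X} (hy : y ∈ Models.specialFibreSet R (Over.mk p))
    (hy₁ : y₁ ∈ Models.specialFibreSet R (Over.mk p)) (h1 : y ⤳ y₁) (hne : y ≠ y₁) : IsMaxSpecial p y :=
  ⟨hy, fun _ h' hy' => eq_of_generalization hg hdim hy₁ h1 hne hy h' hy'⟩

theorem closure_mem_components {y : X} (h : IsMaxSpecial p y) :
    closure ({y} : Set X) ∈ Models.fibreComponents R (Over.mk p) := by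
  refine ⟨⟨isIrreducible_singleton.closure,
    (Models.isClosed_specialFibreSet R (Over.mk p)).closure_subset_iff.2 (Set.singleton_subset_iff.2 h.1)⟩,
    fun T hT hle => ?_⟩
  obtain ⟨y0, hy0⟩ := QuasiSober.sober hT.1.closure isClosed_closure
  have hy0F : y0 ∈ Models.specialFibreSet R (Over.mk p) :=
    (Models.isClosed_specialFibreSet R (Over.mk p)).closure_subset_iff.2 hT.2 hy0.mem
  have hspec : y0 ⤳ y := hy0.specializes (subset_closure (hle (subset_closure rfl)))
  have he := h.2 y0 hspec hy0F
  intro t ht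
  rw [← he, hy0.def]
  exact subset_closure ht

theorem isMaxSpecial_of_mem {y : X} (h : closure ({y} : Set X) ∈ Models.fibreComponents R (Over.mk p)) :
    IsMaxSpecial p y := by
  refine ⟨h.1.2 (subset_closure rfl), fun y' hy' hF => ?_⟩
  have hT : IsIrreducible (closure ({y'} : Set X)) ∧ closure ({y'} : Set X) ⊆ Models.specialFibreSet R (Over.mk p) :=
    ⟨isIrreducible_singleton.closure,
      (Models.isClosed_specialFibreSet R (Over.mk p)).closure_subset_iff.2 (Set.singleton_subset_iff.2 hF)⟩
  have h1 := h.2 hT hy'.closure_subset (subset_closure rfl)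
  exact (hy'.antisymm (specializes_iff_mem_closure.2 h1)).eq

theorem valuationRing_max [IsIntegral X] (hn : Pi1.IsNormalScheme X) {y : X} (h : IsMaxSpecial p y) :
    @ValuationRing (X.presheaf.stalk y) _ (hn y).1 := by
  haveI : IsLocallyNoetherian X := LocallyOfFiniteType.isLocallyNoetherian p
  haveI := (hn y).1
  haveI := (hn y).2
  obtain ⟨ϖ, hϖ⟩ := IsDiscreteValuationRing.exists_irreducible R
  refine valuationRing_of_dim_le_one ?_
  let π := MdlInter.pi p ϖ y
  have hπ : π ∈ IsLocalRing.maximalIdeal (X.presheaf.stalk y) :=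
    (MdlInter.isUnit_pi_iff p hϖ.maximalIdeal_eq y).2 h.1
  haveI : Ring.KrullDimLE 0 (X.presheaf.stalk y ⧸ Ideal.span {π}) := by
    refine Ring.krullDimLE_zero_iff.2 fun Q hQ => ?_
    let Q' : PrimeSpectrum (X.presheaf.stalk y) := ⟨Q.comap (Ideal.Quotient.mk _), inferInstance⟩
    have hπQ : π ∈ Q'.asIdeal := by
      show Ideal.Quotient.mk _ π ∈ Q
      rw [Ideal.Quotient.eq_zero_iff_mem.2 (Ideal.mem_span_singleton_self π)]
      exact zero_mem Q
    have hmem : X.fromSpecStalk y Q' ∈ Models.specialFibreSet R (Over.mk p) := by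
      rw [MdlRegPt.mem_F_iff, ← Scheme.Hom.comp_apply, ← specMap_stalkHom]
      refine PrimeSpectrum.ext ?_
      refine ((IsLocalRing.maximalIdeal.isMaximal R).eq_of_le (Ideal.IsPrime.ne_top inferInstance) ?_).symm
      rw [hϖ.maximalIdeal_eq, Ideal.span_le, Set.singleton_subset_iff]
      exact hπQ
    have hsp : X.fromSpecStalk y Q' ⤳ y := by
      have : X.fromSpecStalk y Q' ∈ Set.range (X.fromSpecStalk y) := ⟨Q', rfl⟩
      rwa [Scheme.range_fromSpecStalk] at this
    have hQ' : Q' = IsLocalRing.closedPoint (X.presheaf.stalk y) :=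
      (X.fromSpecStalk y).isEmbedding.injective ((h.2 _ hsp hmem).trans Scheme.fromSpecStalk_closedPoint.symm)
    haveI : (Q.comap (Ideal.Quotient.mk (Ideal.span {π}))).IsMaximal := by
      rw [show Q.comap (Ideal.Quotient.mk (Ideal.span {π})) = IsLocalRing.maximalIdeal (X.presheaf.stalk y) from
        congrArg PrimeSpectrum.asIdeal hQ']
      exact IsLocalRing.maximalIdeal.isMaximal _
    rw [← Ideal.map_comap_of_surjective _ Ideal.Quotient.mk_surjective Q]
    exact (Ideal.map_eq_top_or_isMaximal_of_surjective _ Ideal.Quotient.mk_surjective this).resolve_left (by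
      rw [Ideal.map_comap_of_surjective _ Ideal.Quotient.mk_surjective Q]
      exact hQ.ne_top)
  refine le_trans (ringKrullDim_le_ringKrullDim_quotient_add_encard {π} (by
    simpa [IsLocalRing.ringJacobson_eq_maximalIdeal] using hπ)) ?_
  rw [Set.encard_singleton]
  calc ringKrullDim (X.presheaf.stalk y ⧸ Ideal.span {π}) + 1 ≤ 0 + 1 :=
        add_le_add_left (Ring.krullDimLE_iff.1 inferInstance) 1
    _ = 1 := zero_add 1

include hg hdim in
theorem valuationRing_generic (hn : Pi1.IsNormalScheme X) {y : X}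
    (hy : p y = (⟨⊥, Ideal.isPrime_bot⟩ : PrimeSpectrum R)) :
    @ValuationRing (X.presheaf.stalk y) _ (hn y).1 := by
  haveI : IsLocallyNoetherian X := LocallyOfFiniteType.isLocallyNoetherian p
  haveI := (hn y).1
  haveI := (hn y).2
  haveI := isOpenImmersion_iota hg
  refine valuationRing_of_dim_le_one ?_
  obtain ⟨P, rfl⟩ : y ∈ Set.range g := by rw [range_iota hg]; exact hy
  rw [ringKrullDim_eq_of_ringEquiv (asIso (g.stalkMap P)).commRingCatIsoToRingEquiv, ringKrullDim_stalk_eq_coheight]
  refine le_trans ?_ hdim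
  rw [topologicalKrullDim, Order.krullDim_eq_of_orderIso (irreducibleSetEquivPoints (α := C))]
  exact Order.coheight_le_krullDim P

end Groth.Agent.MdlMap
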