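import Groth.Agent.MdlMap.Surf
import Groth.Agent.H23.RedSub

/-!
# A morphism of normal models from a comparison of the components
-/

noncomputable section

set_option autoImplicit false
set_option linter.style.haveILetI false
set_option linter.unusedSectionVars false
set_option backward.isDefEq.respectTransparency false
set_option backward.isDefEq.respectTransparency.types false
set_option maxHeartbeats 1000000

universe u

open CategoryTheory CategoryTheory.Limits AlgebraicGeometry TopologicalSpace
open Groth.Agent

namespace Groth.Agent.MdlMap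

variable {R : Type u} [CommRing R] [IsDomain R] [IsDiscreteValuationRing R]

/-- Two specialising points over a closed point of the closed fibre with the same second projection agree. -/
theorem eq_of_snd_eq {X W : Scheme.{u}} (p : X ⟶ Spec (CommRingCat.of R)) (q : W ⟶ Spec (CommRingCat.of R))
    [IsProper p] {x : X} (hx : IsClosed ({x} : Set X)) {z z₁ : ↥(pullback p q)} (h : z ⤳ z₁)
    (hz : pullback.fst p q z = x) (hz₁ : pullback.fst p q z₁ = x)
    (hsnd : pullback.snd p q z = pullback.snd p q z₁) : z = z₁ := by
  haveI : IsClosedImmersion (X.fromSpecResidueField x) :=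
    IsClosedImmersion.of_isPreimmersion _ (by rw [Scheme.range_fromSpecResidueField]; exact hx)
  haveI : IsFinite (X.fromSpecResidueField x ≫ p) := by
    rw [IsFinite.iff_isProper_and_isAffineHom]
    exact ⟨inferInstance, inferInstance⟩
  let t := pullback.fst (pullback.fst p q) (X.fromSpecResidueField x)
  haveI : IsClosedImmersion t := MorphismProperty.pullback_fst _ _ inferInstance
  have sq : IsPullback (pullback.snd (pullback.fst p q) (X.fromSpecResidueField x)) (t ≫ pullback.snd p q)
      (X.fromSpecResidueField x ≫ p) q :=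
    (IsPullback.of_hasPullback (pullback.fst p q) (X.fromSpecResidueField x)).flip.paste_vert
      (IsPullback.of_hasPullback p q)
  haveI : IsFinite (t ≫ pullback.snd p q) := MorphismProperty.of_isPullback sq inferInstance
  have hr : Set.range t = (pullback.fst p q) ⁻¹' {x} := by
    rw [Scheme.Pullback.range_fst, Scheme.range_fromSpecResidueField]
  obtain ⟨y, rfl⟩ : z ∈ Set.range t := by rw [hr]; exact hz
  obtain ⟨y₁, rfl⟩ : z₁ ∈ Set.range t := by rw [hr]; exact hz₁
  have hy : y ⤳ y₁ := t.isEmbedding.isInducing.specializes_iff.1 h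
  have e : (t ≫ pullback.snd p q) y = (t ≫ pullback.snd p q) y₁ := by
    simp only [Scheme.Hom.comp_apply]; exact hsnd
  haveI : DiscreteTopology ↥((t ≫ pullback.snd p q) ⁻¹' {(t ≫ pullback.snd p q) y}) :=
    isDiscrete_iff_discreteTopology.1 ((t ≫ pullback.snd p q).isDiscrete_preimage_singleton _)
  have hsub : (⟨y, rfl⟩ : ↥((t ≫ pullback.snd p q) ⁻¹' {(t ≫ pullback.snd p q) y})) ⤳ ⟨y₁, e.symm⟩ :=
    (subtype_specializes_iff _ _).2 hy
  exact congrArg t (congrArg Subtype.val hsub.eq)

/-- A morphism of finite type all of whose fibre points are closed in their fibre has finite fibres. -/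
theorem locallyQuasiFinite_of_no_specialization {Z X : Scheme.{u}} (a : Z ⟶ X) [LocallyOfFiniteType a]
    [QuasiCompact a] (h : ∀ z z₁ : Z, z ⤳ z₁ → a z = a z₁ → z = z₁) : LocallyQuasiFinite a := by
  refine locallyQuasiFinite_iff_finite_preimage_singleton.2 fun x => ?_
  haveI : QuasiCompact (a.fiberToSpecResidueField x) := MorphismProperty.pullback_snd _ _ inferInstance
  haveI : CompactSpace (a.fiber x) := QuasiCompact.compactSpace_of_compactSpace (a.fiberToSpecResidueField x)
  haveI : IsLocallyNoetherian (a.fiber x) :=
    LocallyOfFiniteType.isLocallyNoetherian (a.fiberToSpecResidueField x)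
  haveI : AlgebraicGeometry.IsNoetherian (a.fiber x) := {}
  have hclosed : ∀ w w' : a.fiber x, w ⤳ w' → w = w' := by
    intro w w' hw
    have hmem : ∀ v : a.fiber x, a (a.fiberι x v) = x := fun v => by
      have : a.fiberι x v ∈ Set.range (a.fiberι x) := ⟨v, rfl⟩
      rwa [Scheme.Hom.range_fiberι] at this
    exact (a.fiberι x).isEmbedding.injective
      (h _ _ (hw.map (a.fiberι x).continuous) ((hmem w).trans (hmem w').symm))
  have hfin : (Set.univ : Set (a.fiber x)).Finite := by
    rw [← sUnion_irreducibleComponents]
    refine NoetherianSpace.finite_irreducibleComponents.sUnion fun T hT => ?_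
    obtain ⟨g, hg⟩ := QuasiSober.sober hT.1 (isClosed_of_mem_irreducibleComponents _ hT)
    refine Set.Finite.subset (Set.finite_singleton g) fun v hv => ?_
    exact (hclosed g v (hg.specializes hv)).symm
  rw [← Scheme.Hom.range_fiberι, ← Set.image_univ]
  exact hfin.image _

variable {C X W : Scheme.{u}} [IsIntegral C] [IsIntegral X] [IsIntegral W]
  {f : C ⟶ Spec (CommRingCat.of (FractionRing R))}
  {p : X ⟶ Spec (CommRingCat.of R)} {q : W ⟶ Spec (CommRingCat.of R)}
  [IsProper p] [Flat p] [IsProper q] [Flat q] {iX : C ⟶ X} {iW : C ⟶ W}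

theorem exists_morphism (hdim : topologicalKrullDim C ≤ 1) (hXn : Pi1.IsNormalScheme X)
    (hWn : Pi1.IsNormalScheme W)
    (hiX : IsPullback iX f p (Spec.map (CommRingCat.ofHom (algebraMap R (FractionRing R)))))
    (hiW : IsPullback iW f q (Spec.map (CommRingCat.ofHom (algebraMap R (FractionRing R)))))
    (H : ∀ (ξ : W) (hξ : iW.base (genericPoint C) ⤳ ξ),
      closure ({ξ} : Set W) ∈ Models.fibreComponents R (Over.mk q) →
        ∃ (ξ' : X) (hξ' : iX.base (genericPoint C) ⤳ ξ'),
          closure ({ξ'} : Set X) ∈ Models.fibreComponents R (Over.mk p) ∧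
          Set.range ((iX.stalkMap (genericPoint C)).hom.comp (X.presheaf.stalkSpecializes hξ').hom) =
            Set.range ((iW.stalkMap (genericPoint C)).hom.comp (W.presheaf.stalkSpecializes hξ).hom)) :
    ∃ φ : X ⟶ W, φ ≫ q = p ∧ iX ≫ φ = iW := by
  haveI : IsLocallyNoetherian X := LocallyOfFiniteType.isLocallyNoetherian p
  haveI : IsLocallyNoetherian W := LocallyOfFiniteType.isLocallyNoetherian q
  haveI := isOpenImmersion_iota hiX
  haveI := isOpenImmersion_iota hiW
  haveI : X.IsSeparated := ⟨by
    rw [← terminal.comp_from p]; infer_instance⟩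
  have hcX : iX (genericPoint C) = genericPoint X := genericPoint_eq_of_isOpenImmersion iX
  have hcW : iW (genericPoint C) = genericPoint W := genericPoint_eq_of_isOpenImmersion iW
  let γ : C ⟶ pullback p q := pullback.lift iX iW (hiX.w.trans hiW.w.symm)
  let z00 : ↥(pullback p q) := γ (genericPoint C)
  let V := Scheme.IdealSheafData.vanishingIdeal (X := pullback p q) ⟨closure {z00}, isClosed_closure⟩
  let Z := V.subscheme
  let j : Z ⟶ pullback p q := V.subschemeι
  have hj : Set.range j = closure {z00} := by
    rw [Scheme.IdealSheafData.range_subschemeι, Scheme.IdealSheafData.coe_support_vanishingIdeal]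
    rfl
  haveI : IsReduced Z := H23.RedSub.isReduced_vanishingIdeal _
  haveI : IrreducibleSpace Z := by
    have hirr : IsIrreducible (Set.range j) := hj ▸ isIrreducible_singleton.closure
    haveI := Subtype.irreducibleSpace hirr
    let e := j.isEmbedding.toHomeomorph
    have h := (IrreducibleSpace.isIrreducible_univ ↥(Set.range j)).image e.symm e.symm.continuous.continuousOn
    rw [Set.image_univ, e.symm.surjective.range_eq] at h
    exact { isPreirreducible_univ := h.2, toNonempty := h.1.to_type }
  haveI : IsIntegral Z := isIntegral_of_irreducibleSpace_of_isReduced Z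
  obtain ⟨c, hc⟩ := H23.RedSub.exists_lift γ j (by
    rw [hj]
    rintro _ ⟨y, rfl⟩
    exact specializes_iff_mem_closure.1 ((genericPoint_specializes y).map γ.continuous))
  have hcZ : c (genericPoint C) = genericPoint Z := by
    refine j.isEmbedding.injective ?_
    rw [← Scheme.Hom.comp_apply, hc]
    have h1 : IsGenericPoint (j (genericPoint Z)) (closure {z00}) := by
      have h2 := (genericPoint_spec Z).image j.continuous
      rwa [Set.image_univ, hj, closure_closure] at h2
    exact (isGenericPoint_closure (x := z00)).eq h1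
  let a : Z ⟶ X := j ≫ pullback.fst p q
  let b : Z ⟶ W := j ≫ pullback.snd p q
  have hca : c ≫ a = iX := by rw [show c ≫ a = (c ≫ j) ≫ pullback.fst p q from (Category.assoc _ _ _).symm, hc, pullback.lift_fst]
  have hcb : c ≫ b = iW := by rw [show c ≫ b = (c ≫ j) ≫ pullback.snd p q from (Category.assoc _ _ _).symm, hc, pullback.lift_snd]
  have hab : a ≫ p = b ≫ q := by simp only [a, b, Category.assoc, pullback.condition]
  haveI : IsProper (pullback.fst p q) := MorphismProperty.pullback_fst _ _ inferInstance
  haveI : IsProper a := inferInstanceAs (IsProper (j ≫ pullback.fst p q))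
  have hdA : ∀ z, Dom (img iX (spec_to iX hcX (a z))) (img c (spec_to c hcZ z)) := fun z => by
    have h := dom_map c hcZ a (spec_to c hcZ z)
    rwa [img_congr hca] at h
  have hdB : ∀ z, Dom (img iW (spec_to iW hcW (b z))) (img c (spec_to c hcZ z)) := fun z => by
    have h := dom_map c hcZ b (spec_to c hcZ z)
    rwa [img_congr hcb] at h
  -- no specialisations inside a fibre
  have hval : ∀ z z₁ : Z, z ⤳ z₁ → a z = a z₁ → ValSet (img iX (spec_to iX hcX (a z))) → z = z₁ := by
    intro z z₁ hs he hv
    refine eq_of_img_subset c hcZ hs ?_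
    have e1 := eq_of_valSet hv (hdA z)
    have e2 := hdA z₁
    rw [← img_congr_pt iX he (spec_to iX hcX (a z))] at e2
    rw [← e1, eq_of_valSet hv e2]
  have hgood : ∀ z z₁ : Z, z ⤳ z₁ → a z = a z₁ → z = z₁ := by
    intro z z₁ hs he
    haveI := (hXn (a z)).1
    rcases MdlRegPt.eq_bot_or_closed (p (a z)) with hsp | hgen
    swap
    · haveI := valuationRing_generic hiX hdim hXn hgen
      exact hval z z₁ hs he (valSet_img iX hcX)
    have hxF : a z ∈ Models.specialFibreSet R (Over.mk p) := hsp
    by_cases hmax : ∃ y, a z ⤳ y ∧ a z ≠ y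
    · obtain ⟨y, hy, hne⟩ := hmax
      have hyF : y ∈ Models.specialFibreSet R (Over.mk p) :=
        hy.mem_closed (Models.isClosed_specialFibreSet R (Over.mk p)) hxF
      haveI := valuationRing_max hXn (isMaxSpecial_of_ne hiX hdim hxF hyF hy hne)
      exact hval z z₁ hs he (valSet_img iX hcX)
    push Not at hmax
    have hcl : IsClosed ({a z} : Set X) := by
      rw [← closure_eq_iff_isClosed]
      exact Set.Subset.antisymm (fun y hy => (hmax y (specializes_iff_mem_closure.2 hy)).symm) subset_closure
    by_cases hw : b z = b z₁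
    · refine j.isEmbedding.injective (eq_of_snd_eq p q hcl (hs.map j.continuous) ?_ ?_ ?_)
      · exact (Scheme.Hom.comp_apply _ _ _).symm
      · rw [he]; exact (Scheme.Hom.comp_apply _ _ _).symm
      · exact (Scheme.Hom.comp_apply _ _ _).symm.trans (hw.trans (Scheme.Hom.comp_apply _ _ _))
    · have hq : ∀ v : Z, q (b v) = p (a v) := fun v => by
        rw [← Scheme.Hom.comp_apply, ← Scheme.Hom.comp_apply, hab]
      have hwF : b z ∈ Models.specialFibreSet R (Over.mk q) := (hq z).trans hsp
      have hw₁F : b z₁ ∈ Models.specialFibreSet R (Over.mk q) := ((hq z₁).trans (congrArg p he.symm)).trans hsp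
      have hM := isMaxSpecial_of_ne hiW hdim hwF hw₁F (hs.map b.continuous) hw
      obtain ⟨ξ', hξ', hξc, hξeq⟩ := H (b z) (spec_to iW hcW (b z)) (closure_mem_components hM)
      haveI := (hWn (b z)).1
      haveI := valuationRing_max hWn hM
      have e1 : img iW (spec_to iW hcW (b z)) = img c (spec_to c hcZ z) := eq_of_valSet (valSet_img iW hcW) (hdB z)
      have e2 : img iX (spec_to iX hcX ξ') = img iW (spec_to iW hcW (b z)) := hξeq
      have hd := hdA z
      rw [← e1, ← e2] at hd
      have hx : a z = ξ' := eq_of_dom iX hcX hd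
      refine hval z z₁ hs he ?_
      rw [img_congr_pt iX hx (spec_to iX hcX (a z))]
      rw [e2]
      exact valSet_img iW hcW
  haveI : LocallyQuasiFinite a := locallyQuasiFinite_of_no_specialization a hgood
  haveI : IsFinite a := IsFinite.of_isProper_of_locallyQuasiFinite a
  have e0 : a (genericPoint Z) = genericPoint X := by
    rw [← hcZ, ← Scheme.Hom.comp_apply, hca, hcX]
  haveI hiso : IsIso a := by
    refine BirNormal.isIso_of_isIntegralHom a (fun U hne hU => by
      haveI := hne; exact CardCrit.isIntegrallyClosed_sections hXn hU) e0 ?_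
    have hF : IsField (X.presheaf.stalk (genericPoint X)) := Field.toIsField X.functionField
    letI := hF.toField
    refine ⟨RingHom.injective _, fun s => ?_⟩
    have hb : Function.Bijective (phi iX (x := a (genericPoint Z)) (spec_to iX hcX _)) := by
      haveI : IsIso (X.presheaf.stalkSpecializes (spec_to iX hcX (a (genericPoint Z)))) :=
        BirNormal.isIso_stalkSpecializes_of_eq (hcX.trans e0.symm) _
      exact ConcreteCategory.bijective_of_isIso
        (X.presheaf.stalkSpecializes (spec_to iX hcX (a (genericPoint Z))) ≫ iX.stalkMap (genericPoint C))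
    obtain ⟨t, ht⟩ := hb.2 (phi c (spec_to c hcZ (genericPoint Z)) s)
    have ht' : a.stalkMap (genericPoint Z) t = s := by
      refine phi_injective c hcZ (spec_to c hcZ (genericPoint Z)) ((phi_map c a _ t).trans (Eq.trans ?_ ht))
      exact phi_congr hca _ t
    haveI : IsIso (X.presheaf.stalkSpecializes (specializes_of_eq e0)) :=
      BirNormal.isIso_stalkSpecializes_of_eq e0 _
    obtain ⟨t', rfl⟩ := (ConcreteCategory.bijective_of_isIso (X.presheaf.stalkSpecializes (specializes_of_eq e0))).2 t
    exact ⟨t', ht'⟩
  refine ⟨inv a ≫ b, ?_, ?_⟩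
  · rw [Category.assoc, ← hab, IsIso.inv_hom_id_assoc]
  · rw [← hca, Category.assoc, IsIso.hom_inv_id_assoc, hcb]

end Groth.Agent.MdlMap
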