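import Groth.Prelude.Def_Pi1
import Groth.Agent.BirNormal.Basic
import Mathlib.AlgebraicGeometry.FunctionField
import Mathlib.AlgebraicGeometry.Morphisms.Separated
import Mathlib.AlgebraicGeometry.Morphisms.OpenImmersion
import Mathlib.AlgebraicGeometry.Properties
import Mathlib.RingTheory.DiscreteValuationRing.TFAE
import Mathlib.RingTheory.Valuation.ValuationRing

/-!
# Local rings inside the function field of a curve
-/

noncomputable section

set_option autoImplicit false
set_option backward.isDefEq.respectTransparency false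
set_option backward.isDefEq.respectTransparency.types false

universe u

open CategoryTheory AlgebraicGeometry TopologicalSpace

namespace Groth.Agent.MdlMap

variable {C X Y : Scheme.{u}} [IsIntegral C]

theorem spec_to (c : C ⟶ X) [IrreducibleSpace X] (hc : c (genericPoint C) = genericPoint X) (x : X) :
    c (genericPoint C) ⤳ x := hc ▸ genericPoint_specializes x

/-- The map of a local ring to the function field of `C`. -/
def phi (c : C ⟶ X) {x : X} (h : c (genericPoint C) ⤳ x) : X.presheaf.stalk x →+* C.functionField :=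
  (c.stalkMap (genericPoint C)).hom.comp (X.presheaf.stalkSpecializes h).hom

/-- The image of a local ring in the function field of `C`. -/
def img (c : C ⟶ X) {x : X} (h : c (genericPoint C) ⤳ x) : Set C.functionField := Set.range (phi c h)

theorem phi_map (c : C ⟶ Y) (a : Y ⟶ X) {z : Y} (h : c (genericPoint C) ⤳ z) (t : X.presheaf.stalk (a z)) :
    phi c h (a.stalkMap z t) = phi (c ≫ a) (x := a z) (h.map a.continuous) t := by
  have e := (Scheme.Hom.stalkSpecializes_stalkMap_apply a (c (genericPoint C)) z h t).symm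
  simp only [phi, RingHom.comp_apply]
  refine (congrArg (c.stalkMap (genericPoint C)).hom e).trans ?_
  rw [Scheme.Hom.stalkMap_comp]
  rfl

theorem img_congr {c c' : C ⟶ X} (e : c = c') {x : X} (h : c (genericPoint C) ⤳ x) :
    img c h = img c' (e ▸ h) := by
  subst e; rfl

theorem phi_congr {c c' : C ⟶ X} (e : c = c') {x : X} (h : c (genericPoint C) ⤳ x) (t : X.presheaf.stalk x) :
    phi c h t = phi c' (e ▸ h) t := by
  subst e; rfl

theorem img_congr_pt (c : C ⟶ X) {x x' : X} (e : x = x') (h : c (genericPoint C) ⤳ x) :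
    img c h = img c (e ▸ h) := by
  subst e; rfl

theorem stalkSpecializes_injective [IsIntegral X] {x y : X} (h : x ⤳ y) :
    Function.Injective (X.presheaf.stalkSpecializes h).hom := by
  have e : (X.presheaf.stalkSpecializes h ≫ X.presheaf.stalkSpecializes (genericPoint_specializes x)) =
      X.presheaf.stalkSpecializes (genericPoint_specializes y) := TopCat.Presheaf.stalkSpecializes_comp _ _ _
  have hinj : Function.Injective (X.presheaf.stalkSpecializes (genericPoint_specializes y)).hom :=
    IsFractionRing.injective (X.presheaf.stalk y) X.functionField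
  rw [← e] at hinj
  exact Function.Injective.of_comp hinj

theorem phi_injective [IsIntegral X] (c : C ⟶ X) (hc : c (genericPoint C) = genericPoint X) {x : X}
    (h : c (genericPoint C) ⤳ x) : Function.Injective (phi c h) := by
  intro a b hab
  refine stalkSpecializes_injective h ?_
  have hF : IsField (X.presheaf.stalk (c (genericPoint C))) := by
    rw [hc]; exact Field.toIsField X.functionField
  letI := hF.toField
  exact (c.stalkMap (genericPoint C)).hom.injective hab

/-- Inclusion of local subrings of the function field, reflecting units. -/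
def Dom (A B : Set C.functionField) : Prop := A ⊆ B ∧ ∀ t ∈ A, t ≠ 0 → t⁻¹ ∈ B → t⁻¹ ∈ A

theorem dom_map [IsIntegral Y] (c : C ⟶ Y) (hc : c (genericPoint C) = genericPoint Y) (a : Y ⟶ X) {z : Y}
    (h : c (genericPoint C) ⤳ z) :
    Dom (img (c ≫ a) (x := a z) (h.map a.continuous)) (img c h) := by
  refine ⟨?_, ?_⟩
  · rintro _ ⟨t, rfl⟩
    exact ⟨a.stalkMap z t, phi_map c a h t⟩
  · rintro _ ⟨t, rfl⟩ hne ⟨v, hv⟩
    have h1 : a.stalkMap z t * v = 1 := by
      apply phi_injective c hc h
      rw [map_mul, hv, phi_map, map_one, mul_inv_cancel₀ hne]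
    have hu : IsUnit t := isUnit_of_map_unit (a.stalkMap z).hom t (IsUnit.of_mul_eq_one _ h1)
    obtain ⟨u, rfl⟩ := hu
    refine ⟨(u⁻¹ : (X.presheaf.stalk (a z))ˣ), ?_⟩
    refine (eq_inv_of_mul_eq_one_left ?_)
    rw [← map_mul, Units.inv_mul, map_one]

/-- A valuation subring of the function field. -/
def ValSet (A : Set C.functionField) : Prop := ∀ t : C.functionField, t ∈ A ∨ t⁻¹ ∈ A

theorem eq_of_valSet {A B : Set C.functionField} (hA : ValSet A) (h : Dom A B) : A = B := by
  refine Set.Subset.antisymm h.1 fun t ht => (hA t).elim id fun hi => ?_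
  by_cases h0 : t = 0
  · subst h0
    rwa [inv_zero] at hi
  · have h2 := h.2 _ hi (inv_ne_zero h0) (by rwa [inv_inv])
    rwa [inv_inv] at h2

theorem eq_of_img_subset [IsIntegral X] (c : C ⟶ X) (hc : c (genericPoint C) = genericPoint X) {z z₁ : X}
    (hs : z ⤳ z₁) (hsub : img c (spec_to c hc z) ⊆ img c (spec_to c hc z₁)) : z = z₁ := by
  have key : ∀ t, phi c (spec_to c hc z) (X.presheaf.stalkSpecializes hs t) = phi c (spec_to c hc z₁) t := fun t =>
    congrArg (fun q : X.presheaf.stalk z₁ ⟶ X.presheaf.stalk (c (genericPoint C)) =>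
      (c.stalkMap (genericPoint C)).hom (q.hom t)) (TopCat.Presheaf.stalkSpecializes_comp X.presheaf (spec_to c hc z) hs)
  haveI : IsIso (X.presheaf.stalkSpecializes hs) := by
    refine (ConcreteCategory.isIso_iff_bijective _).2 ⟨stalkSpecializes_injective hs, fun s => ?_⟩
    obtain ⟨t, ht⟩ := hsub ⟨s, rfl⟩
    exact ⟨t, phi_injective c hc _ ((key t).trans ht)⟩
  have hr : z₁ ∈ Set.range (X.fromSpecStalk z) := by
    refine ⟨(inv (Spec.map (X.presheaf.stalkSpecializes hs))) (IsLocalRing.closedPoint _), ?_⟩
    rw [← Scheme.Hom.comp_apply, show inv (Spec.map (X.presheaf.stalkSpecializes hs)) ≫ X.fromSpecStalk z =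
      X.fromSpecStalk z₁ by rw [IsIso.inv_comp_eq, Scheme.SpecMap_stalkSpecializes_fromSpecStalk]]
    exact Scheme.fromSpecStalk_closedPoint
  rw [Scheme.range_fromSpecStalk] at hr
  exact (hs.antisymm hr).eq

/-- A valuation ring has at most one centre. -/
theorem eq_of_dom [IsIntegral X] [X.IsSeparated] (c : C ⟶ X) (hc : c (genericPoint C) = genericPoint X) {x x' : X}
    (h : Dom (img c (spec_to c hc x)) (img c (spec_to c hc x'))) : x = x' := by
  let φ := phi c (spec_to c hc x)
  let φ' := phi c (spec_to c hc x')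
  have hinj : Function.Injective φ' := phi_injective c hc _
  have hex : ∀ t, ∃ s, φ' s = φ t := fun t => h.1 ⟨t, rfl⟩
  choose ψ hψ using hex
  let ψh : X.presheaf.stalk x →+* X.presheaf.stalk x' :=
    { toFun := ψ
      map_one' := hinj (by rw [hψ, map_one, map_one])
      map_mul' := fun a b => hinj (by rw [hψ, map_mul, map_mul, hψ, hψ])
      map_zero' := hinj (by rw [hψ, map_zero, map_zero])
      map_add' := fun a b => hinj (by rw [hψ, map_add, map_add, hψ, hψ]) }
  have hloc : IsLocalHom ψh := by
    refine ⟨fun t ht => ?_⟩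
    obtain ⟨u, hu⟩ := ht
    have hne : φ t ≠ 0 := by
      rw [← hψ t]
      exact fun h0 => u.ne_zero (hu.trans (hinj (h0.trans (map_zero φ').symm)))
    obtain ⟨w, hw⟩ := h.2 (φ t) ⟨t, rfl⟩ hne ⟨(u⁻¹ : (X.presheaf.stalk x')ˣ), eq_inv_of_mul_eq_one_left (by
      rw [← hψ t, show ψ t = (u : X.presheaf.stalk x') from hu.symm]
      show φ' _ * φ' _ = 1
      rw [← map_mul, Units.inv_mul, map_one])⟩
    refine IsUnit.of_mul_eq_one w (phi_injective c hc (spec_to c hc x) ?_)
    rw [map_mul, hw, map_one]
    exact mul_inv_cancel₀ hne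
  let Ψ : X.presheaf.stalk x ⟶ X.presheaf.stalk x' := CommRingCat.ofHom ψh
  haveI : IsLocalHom Ψ.hom := hloc
  haveI : IsDomain (X.presheaf.stalk x') := inferInstance
  have hdom : IsDominant (Spec.map (CommRingCat.ofHom φ')) := by
    refine ⟨?_⟩
    show DenseRange (PrimeSpectrum.comap φ')
    rw [PrimeSpectrum.denseRange_comap_iff_ker_le_nilRadical, (RingHom.injective_iff_ker_eq_bot _).1 hinj]
    exact bot_le
  have hcomp : ∀ (y : X), Spec.map (CommRingCat.ofHom (phi c (spec_to c hc y))) ≫ X.fromSpecStalk y =
      Spec.map (c.stalkMap (genericPoint C)) ≫ X.fromSpecStalk (c (genericPoint C)) := fun y => by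
    rw [show CommRingCat.ofHom (phi c (spec_to c hc y)) =
      X.presheaf.stalkSpecializes (spec_to c hc y) ≫ c.stalkMap (genericPoint C) from rfl, Spec.map_comp,
      Category.assoc, Scheme.SpecMap_stalkSpecializes_fromSpecStalk]
  have heq : X.fromSpecStalk x' = Spec.map Ψ ≫ X.fromSpecStalk x := by
    refine ext_of_isDominant (Spec.map (CommRingCat.ofHom φ')) ?_
    rw [← Category.assoc, ← Spec.map_comp, show Ψ ≫ CommRingCat.ofHom φ' = CommRingCat.ofHom φ from
      CommRingCat.hom_ext (RingHom.ext hψ)]
    exact (hcomp x').trans (hcomp x).symm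
  have h1 := congrArg (fun q : Spec (X.presheaf.stalk x') ⟶ X => q (IsLocalRing.closedPoint _)) heq
  simp only [Scheme.Hom.comp_apply] at h1
  rw [Scheme.fromSpecStalk_closedPoint] at h1
  refine (h1.trans ?_).symm
  rw [show (Spec.map Ψ) (IsLocalRing.closedPoint _) = IsLocalRing.closedPoint _ from
    IsLocalRing.comap_closedPoint Ψ.hom, Scheme.fromSpecStalk_closedPoint]

/-- A valuation local ring of a birational model is a valuation subring of the function field. -/
theorem valSet_img [IsIntegral X] (c : C ⟶ X) [IsOpenImmersion c] (hc : c (genericPoint C) = genericPoint X) {x : X}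
    [IsDomain (X.presheaf.stalk x)] [ValuationRing (X.presheaf.stalk x)] :
    ValSet (img c (spec_to c hc x)) := by
  intro t
  have hb : Function.Bijective ((X.presheaf.stalkSpecializes (specializes_of_eq hc)) ≫
      c.stalkMap (genericPoint C)).hom := by
    haveI : IsIso (X.presheaf.stalkSpecializes (specializes_of_eq hc)) :=
      BirNormal.isIso_stalkSpecializes_of_eq hc _
    exact ConcreteCategory.bijective_of_isIso _
  let e : X.functionField ≃+* C.functionField := RingEquiv.ofBijective _ hb
  have he : ∀ a, e (algebraMap (X.presheaf.stalk x) X.functionField a) = phi c (spec_to c hc x) a := fun a =>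
    congrArg (fun q : X.presheaf.stalk x ⟶ X.presheaf.stalk (c (genericPoint C)) =>
      (c.stalkMap (genericPoint C)).hom (q.hom a))
      (TopCat.Presheaf.stalkSpecializes_comp X.presheaf (specializes_of_eq hc) (genericPoint_specializes x))
  rcases ValuationRing.isInteger_or_isInteger (X.presheaf.stalk x) (e.symm t) with ⟨a, ha⟩ | ⟨a, ha⟩
  · exact Or.inl ⟨a, by rw [← he, show algebraMap (X.presheaf.stalk x) X.functionField a = _ from ha, e.apply_symm_apply]⟩
  · exact Or.inr ⟨a, by rw [← he, show algebraMap (X.presheaf.stalk x) X.functionField a = _ from ha, map_inv₀,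
      e.apply_symm_apply]⟩

theorem valuationRing_of_dim_le_one {A : Type u} [CommRing A] [IsDomain A] [IsLocalRing A] [IsNoetherianRing A]
    [IsIntegrallyClosed A] (h : ringKrullDim A ≤ 1) : ValuationRing A := by
  by_cases hf : IsField A
  · letI := hf.toField
    infer_instance
  haveI : Ring.KrullDimLE 1 A := Ring.krullDimLE_iff.mpr h
  have hd : IsDiscreteValuationRing A := by
    have key : IsDiscreteValuationRing A ↔ IsIntegrallyClosed A ∧ ∃! P : Ideal A, P ≠ ⊥ ∧ P.IsPrime :=
      (IsDiscreteValuationRing.TFAE A hf).out 0 3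
    refine key.mpr ⟨inferInstance, IsLocalRing.maximalIdeal A,
      ⟨fun hh => hf (IsLocalRing.isField_iff_maximalIdeal_eq.mpr hh), inferInstance⟩, fun P ⟨hP, hP'⟩ => ?_⟩
    haveI := hP'
    exact IsLocalRing.eq_maximalIdeal ((Ring.krullDimLE_one_iff_of_isPrime_bot.mp inferInstance) P hP hP')
  infer_instance

end Groth.Agent.MdlMap
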